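import Groth.Agent.LimDomLib.Basic
import Mathlib.Algebra.Category.Ring.FilteredColimits
import Mathlib.AlgebraicGeometry.AffineTransitionLimit

/-! # A morphism from the spectrum of an algebra to a scheme of finite type comes from a finitely
generated subalgebra -/

set_option autoImplicit false
set_option linter.style.haveILetI false
set_option backward.isDefEq.respectTransparency false
set_option backward.isDefEq.respectTransparency.types false

universe u

open CategoryTheory CategoryTheory.Limits AlgebraicGeometry Opposite

namespace Groth.Agent.LimDomAlg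

variable (k : Type u) [CommRing k] (A : Type u) [CommRing A] [Algebra k A]

/-- The subalgebra generated by a finite set. -/
abbrev gen (s : Finset A) : Subalgebra k A := Algebra.adjoin k (s : Set A)

theorem gen_mono {s t : Finset A} (h : s ≤ t) : gen k A s ≤ gen k A t := Algebra.adjoin_mono h

theorem mem_gen (a : A) : a ∈ gen k A {a} := Algebra.subset_adjoin (by simp)

/-- The diagram of rings. -/
noncomputable def ringDiag : Finset A ⥤ CommRingCat.{u} where
  obj s := CommRingCat.of (gen k A s)
  map {s t} a := CommRingCat.ofHom (Subalgebra.inclusion (gen_mono k A (leOfHom a))).toRingHom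
  map_id s := by ext x; rfl
  map_comp a b := by ext x; rfl

/-- The cocone of rings. -/
noncomputable def ringCocone : Cocone (ringDiag k A) where
  pt := CommRingCat.of A
  ι :=
    { app := fun s => CommRingCat.ofHom (gen k A s).val.toRingHom
      naturality := fun s t a => by ext x; rfl }

/-- The cocone is a colimit. -/
noncomputable def isColimitRingCocone : IsColimit (ringCocone k A) := by
  classical
  have key : ∀ (c : Cocone (ringDiag k A)) (s : Finset A) (b : A) (hb : b ∈ gen k A s),
      c.ι.app {b} (⟨b, mem_gen k A b⟩ : gen k A {b}) = c.ι.app s (⟨b, hb⟩ : gen k A s) := by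
    intro c s b hb
    rw [← c.w (homOfLE (le_sup_left : {b} ≤ {b} ⊔ s)), ← c.w (homOfLE (le_sup_right : s ≤ {b} ⊔ s))]
    rfl
  let dfun : ∀ c : Cocone (ringDiag k A), A → c.pt := fun c b => c.ι.app {b} (⟨b, mem_gen k A b⟩ : gen k A {b})
  let d : ∀ c : Cocone (ringDiag k A), A →+* c.pt := fun c =>
    { toFun := dfun c
      map_one' := by
        rw [show dfun c 1 = _ from key c {1} 1 (one_mem _)]
        exact map_one (c.ι.app {1}).hom
      map_zero' := by
        rw [show dfun c 0 = _ from key c {0} 0 (zero_mem _)]
        exact map_zero (c.ι.app {0}).hom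
      map_add' := fun x y => by
        have hx : x ∈ gen k A {x, y} := Algebra.subset_adjoin (by simp)
        have hy : y ∈ gen k A {x, y} := Algebra.subset_adjoin (by simp)
        rw [show dfun c (x + y) = _ from key c {x, y} (x + y) (add_mem hx hy),
          show dfun c x = _ from key c {x, y} x hx, show dfun c y = _ from key c {x, y} y hy]
        exact map_add (c.ι.app {x, y}).hom (⟨x, hx⟩ : gen k A {x, y}) ⟨y, hy⟩
      map_mul' := fun x y => by
        have hx : x ∈ gen k A {x, y} := Algebra.subset_adjoin (by simp)
        have hy : y ∈ gen k A {x, y} := Algebra.subset_adjoin (by simp)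
        rw [show dfun c (x * y) = _ from key c {x, y} (x * y) (mul_mem hx hy),
          show dfun c x = _ from key c {x, y} x hx, show dfun c y = _ from key c {x, y} y hy]
        exact map_mul (c.ι.app {x, y}).hom (⟨x, hx⟩ : gen k A {x, y}) ⟨y, hy⟩ }
  exact
    { desc := fun c => CommRingCat.ofHom (d c)
      fac := fun c s => by
        ext x
        exact key c s x.1 x.2
      uniq := fun c m hm => by
        ext (x : A)
        exact congr($(hm {x}) (⟨x, mem_gen k A x⟩ : gen k A {x})) }

/-- A morphism to a scheme of finite type descends to a finitely generated subalgebra. -/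
theorem exists_factor {X : Scheme.{u}} (f : X ⟶ Spec (CommRingCat.of k)) [LocallyOfFiniteType f]
    (g : Spec (CommRingCat.of A) ⟶ X) (hg : g ≫ f = Spec.map (CommRingCat.ofHom (algebraMap k A))) :
    ∃ (s : Finset A) (g' : Spec (CommRingCat.of (gen k A s)) ⟶ X),
      g' ≫ f = Spec.map (CommRingCat.ofHom (algebraMap k (gen k A s))) ∧
      Spec.map (CommRingCat.ofHom (gen k A s).val.toRingHom) ≫ g' = g := by
  classical
  let D : (Finset A)ᵒᵖ ⥤ Scheme.{u} := (ringDiag k A).op ⋙ Scheme.Spec
  let c : Cone D := Scheme.Spec.mapCone (ringCocone k A).op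
  have hc : IsLimit c := isLimitOfPreserves Scheme.Spec (isColimitRingCocone k A).op
  let t : D ⟶ (Functor.const (Finset A)ᵒᵖ).obj (Spec (CommRingCat.of k)) :=
    { app := fun s => Spec.map (CommRingCat.ofHom (algebraMap k (gen k A s.unop)))
      naturality := fun s u a => by
        show Spec.map _ ≫ Spec.map _ = _ ≫ 𝟙 _
        rw [Category.comp_id, ← Spec.map_comp]
        exact congrArg Spec.map (CommRingCat.hom_ext (RingHom.ext fun r => rfl)) }
  haveI : ∀ {i j : (Finset A)ᵒᵖ} (a : i ⟶ j), IsAffineHom (D.map a) := fun {i j} a =>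
    inferInstanceAs (IsAffineHom (Spec.map _))
  haveI : ∀ i, CompactSpace (D.obj i) := fun i => inferInstanceAs (CompactSpace (Spec _))
  haveI : ∀ i, QuasiSeparatedSpace (D.obj i) := fun i => inferInstanceAs (QuasiSeparatedSpace (Spec _))
  have hπ : ∀ i, IsSchemeTheoreticallyDominant (c.π.app i) := fun i => by
    refine ⟨?_⟩
    show (Spec.map (CommRingCat.ofHom (gen k A i.unop).val.toRingHom)).ker = ⊥
    refine Scheme.IdealSheafData.ext_of_isAffine ?_
    rw [Scheme.Hom.ker_apply, Scheme.IdealSheafData.ideal_bot, Pi.bot_apply, ← RingHom.injective_iff_ker_eq_bot]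
    intro a b hab
    have hn := Scheme.ΓSpecIso_inv_naturality (CommRingCat.ofHom (gen k A i.unop).val.toRingHom)
    apply (Scheme.ΓSpecIso (CommRingCat.of (gen k A i.unop))).commRingCatIsoToRingEquiv.injective
    apply Subtype.val_injective
    apply (Scheme.ΓSpecIso (CommRingCat.of A)).commRingCatIsoToRingEquiv.symm.injective
    have e : ∀ z, (Spec.map (CommRingCat.ofHom (gen k A i.unop).val.toRingHom)).appTop z =
        (Scheme.ΓSpecIso (CommRingCat.of A)).inv ((gen k A i.unop).val
          ((Scheme.ΓSpecIso (CommRingCat.of (gen k A i.unop))).hom z)) := fun z => by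
      have := congr($hn ((Scheme.ΓSpecIso (CommRingCat.of (gen k A i.unop))).hom z))
      simp only [CommRingCat.hom_comp, RingHom.comp_apply, CategoryTheory.Iso.hom_inv_id_apply] at this
      exact this.symm
    exact (e a).symm.trans (hab.trans (e b))
  obtain ⟨i, g', h1, h2⟩ := LimDomLib.exists_π_app_comp_eq_of_locallyOfFiniteType D t f c hc hπ g (by
    ext s
    show Spec.map _ ≫ Spec.map _ = g ≫ f
    rw [hg, ← Spec.map_comp]
    exact congrArg Spec.map (CommRingCat.hom_ext (RingHom.ext fun r => rfl)))
  exact ⟨i.unop, g', h2, h1⟩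

end Groth.Agent.LimDomAlg
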